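import Cfsg.Agent.H824.Sp2.Main
import Cfsg.Agent.H824.Sp2.Code
import Cfsg.Agent.LieClassical.FieldTransfer
import Cfsg.Agent.Prune
set_option linter.all false
prune_inst 0x7f00000000000000000000000000000000000000000000000000000000000000000000000000000000000000000000000000000000000000000000000000000000000000000000000000000000000000003fffffffffffffffffffffffffffbeffbdffffffff
open scoped Cfsg.Agent.FastGrp

/-!
# S3938 (3/2-generation), `Sp_6(2)`, `Sp_8(2)`, `Sp_12(2)` (helper824)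

`spr_psp_three`, `spr_psp_four`, `spr_psp_six`: `Spr (PSp m F)`, `|F| = 2`, `m = 3, 4, 6`.
-/

set_option autoImplicit false
set_option maxRecDepth 100000

namespace Cfsg.Agent.H824.Sp2

open Cfsg Cfsg.Agent.ClassicalGeometry.SympBasic Cfsg.Agent.H107.SpTr

/-- the parity of the first bits -/
noncomputable def fPar (x i : ℕ) : Bool := Nat.rec false (fun i r => xor r (x.testBit i)) i

theorem fPar_hbr (m a z : ℕ) : ∀ i, hbr m a z i = fPar (((a >>> m) &&& z) ^^^ (a &&& (z >>> m))) i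
  | 0 => rfl
  | i + 1 => by
    show xor (hbr m a z i) (xor (a.testBit (m + i) && z.testBit i) (a.testBit i && z.testBit (m + i))) =
      xor (fPar _ i) (Nat.testBit _ i)
    rw [fPar_hbr m a z i, Nat.testBit_xor, Nat.testBit_and, Nat.testBit_and, Nat.testBit_shiftRight,
      Nat.testBit_shiftRight]

theorem fPar_mod (x m : ℕ) : ∀ i, i ≤ m → fPar (x % 2 ^ m) i = fPar x i
  | 0, _ => rfl
  | i + 1, h => by
    show xor (fPar _ i) (Nat.testBit _ i) = xor (fPar _ i) (Nat.testBit _ i)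
    rw [fPar_mod x m i (Nat.le_of_succ_le h), Nat.testBit_mod_two_pow, decide_eq_true (show i < m from h), Bool.true_and]

/-- the table of parities is right below `2 ^ m` -/
def fOK (m q : ℕ) : Prop := 2 ^ m = q ∧ ∀ y < q, (7608434000728254870 >>> y) &&& 1 = (fPar y m).toNat

theorem fOK4 : fOK 4 16 := ⟨rfl, by decide +kernel⟩

theorem fOK6 : fOK 6 64 := ⟨rfl, by decide +kernel⟩

/-- `tstep` with a table -/
def fTs (m q a z : ℕ) : ℕ :=
  Nat.xor z (Nat.mul a (Nat.land (Nat.shiftRight 7608434000728254870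
    (Nat.mod (Nat.xor (Nat.land (Nat.shiftRight z m) a) (Nat.land z (Nat.shiftRight a m))) q)) 1))

theorem fTs_eq {m q : ℕ} (h : fOK m q) (a z : ℕ) : tstep m a z = fTs m q a z := by
  obtain ⟨rfl, h⟩ := h
  show (bif hbr m z a m then z ^^^ a else z) =
    z ^^^ a * ((7608434000728254870 >>> ((((z >>> m) &&& a) ^^^ (z &&& (a >>> m))) % 2 ^ m)) &&& 1)
  rw [h _ (Nat.mod_lt _ (Nat.two_pow_pos m)), fPar_mod _ m m le_rfl, ← fPar_hbr]
  cases hbr m z a m
  · show z = z ^^^ a * 0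
    rw [Nat.mul_zero, Nat.xor_zero]
  · show z ^^^ a = z ^^^ a * 1
    rw [Nat.mul_one]

/-- `actl` -/
noncomputable def fAct (m q : ℕ) (l : List ℕ) (z : ℕ) : ℕ := List.rec z (fun a _ r => fTs m q a r) l

theorem fAct_eq {m q : ℕ} (h : fOK m q) (z : ℕ) : ∀ l : List ℕ, actl m l z = fAct m q l z
  | [] => rfl
  | a :: l => by
    show tstep m a (actl m l z) = fTs m q a (fAct m q l z)
    rw [fAct_eq h z l, fTs_eq h]

/-- `iter` -/
noncomputable def fIt (m q : ℕ) (l : List ℕ) (z k : ℕ) : ℕ := Nat.rec z (fun _ r => fAct m q l r) k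

theorem fIt_eq {m q : ℕ} (h : fOK m q) (l : List ℕ) (z : ℕ) : ∀ k, iter m l z k = fIt m q l z k
  | 0 => rfl
  | k + 1 => by
    show actl m l (iter m l z k) = fAct m q l (fIt m q l z k)
    rw [fIt_eq h l z k, fAct_eq h]

/-- `xsum` -/
noncomputable def fXs (m q : ℕ) (l : List ℕ) (a : ℕ) (L : List ℕ) : ℕ :=
  List.rec 0 (fun k _ r => Nat.xor (fIt m q l a k) r) L

theorem fXs_eq {m q : ℕ} (h : fOK m q) (l : List ℕ) (a : ℕ) : ∀ L : List ℕ, xsum m l a L = fXs m q l a L
  | [] => rfl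
  | k :: L => by
    show iter m l a k ^^^ xsum m l a L = fIt m q l a k ^^^ fXs m q l a L
    rw [fIt_eq h, fXs_eq h l a L]

theorem fPow {m q : ℕ} (h : fOK m q) {l l' : List ℕ} {e : ℕ}
    (H : ((List.range (2 * m)).all fun j => Nat.beq (fIt m q l (2 ^ j) e) (fAct m q l' (2 ^ j))) = true) :
    chkPow m l e l' = true := by
  delta chkPow
  rw [← H]
  congr 1
  funext j
  rw [fIt_eq h, fAct_eq h]

theorem fSpan {m q : ℕ} (h : fOK m q) {l : List ℕ} {a : ℕ} {L : List (List ℕ)}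
    (H : ((List.range (2 * m)).all fun j => Nat.beq (fXs m q l a (L.getD j [])) (2 ^ j)) = true) :
    chkSpan m l a L = true := by
  delta chkSpan
  rw [← H]
  congr 1
  funext j
  rw [fXs_eq h]

/-- the data for `Sp_{8}(2)` -/
def dat_four : Full2 4 where
  v := 1
  w := 16
  p := 2
  r := 32
  ly := [2, 32, 6, 64, 12, 128]
  k1 := 7
  k2 := 15
  hs := fPow fOK4 (by decide +kernel)
  hy := fPow fOK4 (by decide +kernel)
  hvw := by decide +kernel
  hpr := by decide +kernel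
  hvp := by decide +kernel
  hvr := by decide +kernel
  hwp := by decide +kernel
  hwr := by decide +kernel
  D1 :=
    { W0 := [1, 2, 1, 5, 1, 0, 2, 1, 5, 1, 1]
      e := 3
      a := 10
      W1 := [1, 2]
      L := [[1, 3, 4, 7], [2, 3, 5], [1, 2, 3, 4, 6], [0, 2, 3, 5], [0, 1, 2, 4, 6, 7], [3, 4, 6], [2, 5, 6, 7], [1, 2, 5, 6, 7]]
      W2 := [1, 1]
      W3 := [5, 4, 2, 4]
      W4 := [1]
      h0 := fPow fOK4 (by decide +kernel)
      h1 := by rw [fAct_eq fOK4]; decide +kernel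
      hL := fSpan fOK4 (by decide +kernel)
      h2 := by rw [fAct_eq fOK4]; decide +kernel
      h3 := by rw [fAct_eq fOK4, fAct_eq fOK4]; decide +kernel
      h4 := by rw [fAct_eq fOK4]; decide +kernel
      h5 := by rw [fAct_eq fOK4, fAct_eq fOK4]; decide +kernel }
  D2 :=
    { W0 := [0, 1, 1, 2]
      e := 15
      a := 110
      W1 := [0, 2, 4, 2]
      L := [[0, 1, 2, 3, 4, 5, 7], [0, 2], [1, 2, 3, 4, 5, 6], [0, 2, 4, 5, 6, 7], [0, 2, 3, 5, 6, 7], [1, 3], [0, 2, 7], [2, 3, 7]]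
      W2 := [2, 1]
      W3 := [2, 4, 4, 5, 4]
      W4 := [1]
      h0 := fPow fOK4 (by decide +kernel)
      h1 := by rw [fAct_eq fOK4]; decide +kernel
      hL := fSpan fOK4 (by decide +kernel)
      h2 := by rw [fAct_eq fOK4]; decide +kernel
      h3 := by rw [fAct_eq fOK4, fAct_eq fOK4]; decide +kernel
      h4 := by rw [fAct_eq fOK4]; decide +kernel
      h5 := by rw [fAct_eq fOK4, fAct_eq fOK4]; decide +kernel }

/-- the data for `Sp_{12}(2)` -/
def dat_six : Full2 6 where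
  v := 1
  w := 64
  p := 2
  r := 128
  ly := [2, 128, 6, 256, 12, 512, 24, 1024, 48, 2048]
  k1 := 22
  k2 := 12
  hs := fPow fOK6 (by decide +kernel)
  hy := fPow fOK6 (by decide +kernel)
  hvw := by decide +kernel
  hpr := by decide +kernel
  hvp := by decide +kernel
  hvr := by decide +kernel
  hwp := by decide +kernel
  hwr := by decide +kernel
  D1 :=
    { W0 := [4, 3, 2, 4, 2, 4, 5, 4, 4, 4, 5]
      e := 9
      a := 1773
      W1 := [0, 1]
      L := [[0, 11], [0, 2, 3, 4, 5, 6, 7, 9], [0, 3, 8, 11], [0, 1, 5, 8, 11], [0, 1, 3, 7, 8, 11], [0, 1, 3, 5, 8, 9, 11], [0, 1, 2, 3, 4, 5, 6, 7, 8, 9, 10], [1, 3, 4, 5, 6, 7, 8, 10], [0, 2, 4], [2, 4, 6], [4, 6, 8], [6, 8, 10]]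
      W2 := [1]
      W3 := [4, 4, 4, 2, 1, 1, 2, 1, 1, 1, 1, 1, 5, 4]
      W4 := [0]
      h0 := fPow fOK6 (by decide +kernel)
      h1 := by rw [fAct_eq fOK6]; decide +kernel
      hL := fSpan fOK6 (by decide +kernel)
      h2 := by rw [fAct_eq fOK6]; decide +kernel
      h3 := by rw [fAct_eq fOK6, fAct_eq fOK6]; decide +kernel
      h4 := by rw [fAct_eq fOK6]; decide +kernel
      h5 := by rw [fAct_eq fOK6, fAct_eq fOK6]; decide +kernel }
  D2 :=
    { W0 := [0, 1, 2, 4, 5]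
      e := 3
      a := 4
      W1 := [0, 1, 2]
      L := [[2, 3, 8, 9], [1, 5, 7, 11], [0], [1, 7, 8], [1, 2, 3, 7, 8, 9, 10], [0, 6], [3, 4, 9, 10], [2, 3, 4, 5, 8, 9, 10, 11], [1, 2, 3, 4, 5, 8, 9, 10, 11], [1, 2, 8, 9], [3, 4, 10, 11], [1, 2, 3, 4, 7, 8, 9, 10, 11]]
      W2 := [1, 1]
      W3 := [5, 1, 5, 1]
      W4 := [1]
      h0 := fPow fOK6 (by decide +kernel)
      h1 := by rw [fAct_eq fOK6]; decide +kernel
      hL := fSpan fOK6 (by decide +kernel)
      h2 := by rw [fAct_eq fOK6]; decide +kernel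
      h3 := by rw [fAct_eq fOK6, fAct_eq fOK6]; decide +kernel
      h4 := by rw [fAct_eq fOK6]; decide +kernel
      h5 := by rw [fAct_eq fOK6, fAct_eq fOK6]; decide +kernel }

theorem Full2.spr {m : ℕ} (D : Full2 m) (hm : 3 ≤ m) {F : Type} [Field F] [Fintype F] (hF : Fintype.card F = 2) :
    H424.Spr.Spr (PSp m F) :=
  H424.Spr.Spr.congr ((H500.Gs.toPSp (ZMod 2) m).trans
    (LieClassical.FieldTransfer.pspCongr m (FiniteField.ringEquivOfCardEq (K := ZMod 2) (K' := F)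
      ((ZMod.card 2).trans hF.symm)))) (D.cert.spr hm)

/-- `Sp_8(2)` -/
theorem spr_psp_four {F : Type} [Field F] [Fintype F] (hF : Fintype.card F = 2) : H424.Spr.Spr (PSp 4 F) :=
  dat_four.spr (by norm_num) hF

/-- `Sp_12(2)` -/
theorem spr_psp_six {F : Type} [Field F] [Fintype F] (hF : Fintype.card F = 2) : H424.Spr.Spr (PSp 6 F) :=
  dat_six.spr (by norm_num) hF

end Cfsg.Agent.H824.Sp2
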